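import Cfsg.Agent.Bt.Out.Co1.D

set_option autoImplicit false
set_option maxRecDepth 1000000
set_option Elab.async false

namespace CF.Bt.OutCo1

open CF.Comp CF.Leech
open scoped Pointwise

theorem sl_0_0 : allFrom (slpP (lapp X X1) 98280 W 3 0) 0 17 = true := by decide +kernel
theorem sl_1_0 : allFrom (slpP (lapp X X1) 98280 W 3 1) 0 17 = true := by decide +kernel
theorem sl_2_0 : allFrom (slpP (lapp X X1) 98280 W 3 2) 0 17 = true := by decide +kernel
theorem sl_3_0 : allFrom (slpP (lapp X X1) 98280 W 3 3) 0 17 = true := by decide +kernel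
theorem sl_4_0 : allFrom (slpP (lapp X X1) 98280 W 3 4) 0 17 = true := by decide +kernel
theorem sl_5_0 : allFrom (slpP (lapp X X1) 98280 W 3 5) 0 17 = true := by decide +kernel
theorem sl_6_0 : allFrom (slpP (lapp X X1) 98280 W 3 6) 0 17 = true := by decide +kernel
theorem sl_7_0 : allFrom (slpP (lapp X X1) 98280 W 3 7) 0 17 = true := by decide +kernel
theorem sl_8_0 : allFrom (slpP (lapp X X1) 98280 W 3 8) 0 17 = true := by decide +kernel
theorem sl_9_0 : allFrom (slpP (lapp X X1) 98280 W 3 9) 0 17 = true := by decide +kernel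
theorem tb_0_0 : allFrom (tabAt P (lapp X X1) 98280 ts (gensU 13) 0) 0 17 = true := by decide +kernel
theorem tb_1_0 : allFrom (tabAt P (lapp X X1) 98280 ts (gensU 13) 1) 0 17 = true := by decide +kernel
theorem tb_2_0 : allFrom (tabAt P (lapp X X1) 98280 ts (gensU 13) 2) 0 17 = true := by decide +kernel
theorem tb_3_0 : allFrom (tabAt P (lapp X X1) 98280 ts (gensU 13) 3) 0 17 = true := by decide +kernel
theorem tb_4_0 : allFrom (tabAt P (lapp X X1) 98280 ts (gensU 13) 4) 0 17 = true := by decide +kernel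
theorem tb_5_0 : allFrom (tabAt P (lapp X X1) 98280 ts (gensU 13) 5) 0 17 = true := by decide +kernel
theorem tb_6_0 : allFrom (tabAt P (lapp X X1) 98280 ts (gensU 13) 6) 0 17 = true := by decide +kernel
theorem tb_7_0 : allFrom (tabAt P (lapp X X1) 98280 ts (gensU 13) 7) 0 17 = true := by decide +kernel
theorem tb_8_0 : allFrom (tabAt P (lapp X X1) 98280 ts (gensU 13) 8) 0 17 = true := by decide +kernel
theorem tb_9_0 : allFrom (tabAt P (lapp X X1) 98280 ts (gensU 13) 9) 0 17 = true := by decide +kernel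
theorem tb_10_0 : allFrom (tabAt P (lapp X X1) 98280 ts (gensU 13) 10) 0 17 = true := by decide +kernel
theorem tb_11_0 : allFrom (tabAt P (lapp X X1) 98280 ts (gensU 13) 11) 0 17 = true := by decide +kernel
theorem tb_12_0 : allFrom (tabAt P (lapp X X1) 98280 ts (gensU 13) 12) 0 17 = true := by decide +kernel
theorem tb_13_0 : allFrom (tabAt P (lapp X X1) 98280 ts (gensU 13) 13) 0 17 = true := by decide +kernel
theorem tb_14_0 : allFrom (tabAt P (lapp X X1) 98280 ts (gensU 13) 14) 0 17 = true := by decide +kernel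
theorem tb_15_0 : allFrom (tabAt P (lapp X X1) 98280 ts (gensU 13) 15) 0 17 = true := by decide +kernel
theorem tb_16_0 : allFrom (tabAt P (lapp X X1) 98280 ts (gensU 13) 16) 0 17 = true := by decide +kernel
theorem tb_17_0 : allFrom (tabAt P (lapp X X1) 98280 ts (gensU 13) 17) 0 17 = true := by decide +kernel
theorem tb_18_0 : allFrom (tabAt P (lapp X X1) 98280 ts (gensU 13) 18) 0 17 = true := by decide +kernel
theorem tb_19_0 : allFrom (tabAt P (lapp X X1) 98280 ts (gensU 13) 19) 0 17 = true := by decide +kernel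
theorem tb_20_0 : allFrom (tabAt P (lapp X X1) 98280 ts (gensU 13) 20) 0 17 = true := by decide +kernel
theorem tb_21_0 : allFrom (tabAt P (lapp X X1) 98280 ts (gensU 13) 21) 0 17 = true := by decide +kernel
theorem tb_22_0 : allFrom (tabAt P (lapp X X1) 98280 ts (gensU 13) 22) 0 17 = true := by decide +kernel
theorem tb_23_0 : allFrom (tabAt P (lapp X X1) 98280 ts (gensU 13) 23) 0 17 = true := by decide +kernel
theorem tb_24_0 : allFrom (tabAt P (lapp X X1) 98280 ts (gensU 13) 24) 0 17 = true := by decide +kernel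
theorem tb_25_0 : allFrom (tabAt P (lapp X X1) 98280 ts (gensU 13) 25) 0 17 = true := by decide +kernel
theorem r1_0 : Nat.beq (repSet ap M.b (adjAt P ap TG1 TA1 (lmap (wpow [1]) [1, 2, 3, 4, 5, 6, 8, 9, 10, 11]) (llen A1)) (wtree U1_0) (nat_lit 0)) S1_0 = true := by decide +kernel
theorem a1 : adjT P (lapp X X1) 98280 t Gam1 TG1 TA1 A1 (llen A1) = true := by decide +kernel
theorem c1 : adjC (lapp X X1) 98280 ap (M :: t) (lmap (wpow [1]) [1, 2, 3, 4, 5, 6, 8, 9, 10, 11]) R1K A1 22 S1_0 = true := by decide +kernel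
theorem t1 : stdT (lapp X X1) 98280 17 ap (M :: t) [[1]] A1 R1F R1K R1 23 = true := by decide +kernel
theorem r2_0 : Nat.beq (repSet ap M.b (adjAt P ap TG2 TA2 (lmap (wpow (wpow [3] 1)) [1, 3, 4]) (llen A2)) (wtree U2_0) (nat_lit 0)) S2_0 = true := by decide +kernel
theorem a2 : adjT P (lapp X X1) 98280 t Gam2 TG2 TA2 A2 (llen A2) = true := by decide +kernel
theorem c2 : adjC (lapp X X1) 98280 ap (M :: t) (lmap (wpow (wpow [3] 1)) [1, 3, 4]) R2K A2 4 S2_0 = true := by decide +kernel
theorem t2 : stdT (lapp X X1) 98280 17 ap (M :: t) [(wpow [3] 1)] A2 R2F R2K R2 66 = true := by decide +kernel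
theorem w0 : wfAll X 98280 = true := by decide +kernel
theorem w1 : wfAll X1 98280 = true := by decide +kernel
theorem hk : P.ok 17 = true := by decide +kernel

end CF.Bt.OutCo1
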